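import Cfsg.Agent.Lib.InvChar.SporData.FiB.R0
import Cfsg.Agent.Lib.InvChar.SporData.FiB.R1
import Cfsg.Agent.Lib.InvChar.SporData.FiB.R2
import Cfsg.Agent.Lib.InvChar.SporData.FiB.R3
import Cfsg.Agent.Lib.InvChar.SporData.FiB.F0
import Cfsg.Agent.Lib.InvChar.SporData.FiB.F1
import Cfsg.Agent.Lib.InvChar.SporData.FiB.F2
import Cfsg.Agent.Lib.InvChar.SporData.FiB.F3
import Cfsg.Agent.Lib.InvChar.SporData.FiB.F4
import Cfsg.Agent.Lib.InvChar.SporData.FiB.F5
import Cfsg.Agent.Lib.InvChar.SporData.FiB.F6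
import Cfsg.Agent.Lib.InvChar.SporData.FiB.F7
import Cfsg.Agent.Lib.InvChar.SporData.FiB.F8
import Cfsg.Agent.Lib.InvChar.SporData.FiB.F9

set_option autoImplicit false
set_option maxRecDepth 100000

namespace CfsgLib.InvChar.Coset.FiB

theorem facts_ok : ∀ j < 581, cert.chkRun 128 (j * 128) (cert.just.get j) = true := by
  intro j hj
  rcases Nat.lt_or_ge j 64 with h0 | h0
  · obtain ⟨i, rfl⟩ : ∃ i, j = 0 + i := ⟨j - 0, by omega⟩
    exact chkBlocks_get (D := cert) 64 0 chk_facts0 i (by omega)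
  rcases Nat.lt_or_ge j 128 with h1 | h1
  · obtain ⟨i, rfl⟩ : ∃ i, j = 64 + i := ⟨j - 64, by omega⟩
    exact chkBlocks_get (D := cert) 64 64 chk_facts1 i (by omega)
  rcases Nat.lt_or_ge j 192 with h2 | h2
  · obtain ⟨i, rfl⟩ : ∃ i, j = 128 + i := ⟨j - 128, by omega⟩
    exact chkBlocks_get (D := cert) 64 128 chk_facts2 i (by omega)
  rcases Nat.lt_or_ge j 256 with h3 | h3
  · obtain ⟨i, rfl⟩ : ∃ i, j = 192 + i := ⟨j - 192, by omega⟩
    exact chkBlocks_get (D := cert) 64 192 chk_facts3 i (by omega)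
  rcases Nat.lt_or_ge j 320 with h4 | h4
  · obtain ⟨i, rfl⟩ : ∃ i, j = 256 + i := ⟨j - 256, by omega⟩
    exact chkBlocks_get (D := cert) 64 256 chk_facts4 i (by omega)
  rcases Nat.lt_or_ge j 384 with h5 | h5
  · obtain ⟨i, rfl⟩ : ∃ i, j = 320 + i := ⟨j - 320, by omega⟩
    exact chkBlocks_get (D := cert) 64 320 chk_facts5 i (by omega)
  rcases Nat.lt_or_ge j 448 with h6 | h6
  · obtain ⟨i, rfl⟩ : ∃ i, j = 384 + i := ⟨j - 384, by omega⟩
    exact chkBlocks_get (D := cert) 64 384 chk_facts6 i (by omega)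
  rcases Nat.lt_or_ge j 512 with h7 | h7
  · obtain ⟨i, rfl⟩ : ∃ i, j = 448 + i := ⟨j - 448, by omega⟩
    exact chkBlocks_get (D := cert) 64 448 chk_facts7 i (by omega)
  rcases Nat.lt_or_ge j 576 with h8 | h8
  · obtain ⟨i, rfl⟩ : ∃ i, j = 512 + i := ⟨j - 512, by omega⟩
    exact chkBlocks_get (D := cert) 64 512 chk_facts8 i (by omega)
  rcases Nat.lt_or_ge j 581 with h9 | h9
  · obtain ⟨i, rfl⟩ : ∃ i, j = 576 + i := ⟨j - 576, by omega⟩
    exact chkBlocks_get (D := cert) 5 576 chk_facts9 i (by omega)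
  omega

theorem covered : Covered cert table live fin where
  hg15 := by decide +kernel
  hn := by decide +kernel
  facts := ⟨581, by decide +kernel, facts_ok⟩
  rows := by
    intro i hi
    have hi : i < 14080 := hi
    rcases Nat.lt_or_ge i 1500 with h0 | h0
    · exact chkRows_get 1500 0 chk_rows0 i (by omega) (by omega)
    rcases Nat.lt_or_ge i 3000 with h1 | h1
    · exact chkRows_get 1500 1500 chk_rows1 i (by omega) (by omega)
    rcases Nat.lt_or_ge i 4500 with h2 | h2
    · exact chkRows_get 1500 3000 chk_rows2 i (by omega) (by omega)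
    rcases Nat.lt_or_ge i 6000 with h3 | h3
    · exact chkRows_get 1500 4500 chk_rows3 i (by omega) (by omega)
    rcases Nat.lt_or_ge i 7500 with h4 | h4
    · exact chkRows_get 1500 6000 chk_rows4 i (by omega) (by omega)
    rcases Nat.lt_or_ge i 9000 with h5 | h5
    · exact chkRows_get 1500 7500 chk_rows5 i (by omega) (by omega)
    rcases Nat.lt_or_ge i 10500 with h6 | h6
    · exact chkRows_get 1500 9000 chk_rows6 i (by omega) (by omega)
    rcases Nat.lt_or_ge i 12000 with h7 | h7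
    · exact chkRows_get 1500 10500 chk_rows7 i (by omega) (by omega)
    rcases Nat.lt_or_ge i 13500 with h8 | h8
    · exact chkRows_get 1500 12000 chk_rows8 i (by omega) (by omega)
    rcases Nat.lt_or_ge i 14080 with h9 | h9
    · exact chkRows_get 580 13500 chk_rows9 i (by omega) (by omega)
    omega
  root := by decide +kernel

end CfsgLib.InvChar.Coset.FiB
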